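import Groth.Prelude.Def_NonAbH2
import Groth.Agent.NonAb.SchTorsor
import Mathlib.AlgebraicGeometry.Sites.Fpqc

/-!
# Gluing morphisms over a scheme along fpqc coverings by the sections of a locally trivial scheme
-/

set_option autoImplicit false
set_option backward.isDefEq.respectTransparency false
set_option backward.isDefEq.respectTransparency.types false

universe u

open CategoryTheory CategoryTheory.Limits MonoidalCategory CartesianMonoidalCategory MonObj GrpObj AlgebraicGeometry Opposite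

namespace Groth.Agent.TorsSeq

variable {S : Scheme.{u}}

/-- The arrows to `T` over which `X` acquires a section. -/
def locSieve (X : Over S) {T : Scheme.{u}} (h : T ⟶ S) : Sieve T where
  arrows _ g := NonAbH1.HasSectionOver X (g ≫ h)
  downward_closed := by
    rintro W W' g ⟨s, hs⟩ k
    exact ⟨k ≫ s, by rw [Category.assoc, hs, Category.assoc]⟩

theorem locSieve_mem {X : Over S} (hX : NonAbH1.IsLocallyTrivialFor Scheme.fpqcPrecoverage X)
    {T : Scheme.{u}} (h : T ⟶ S) : locSieve X h ∈ Scheme.fpqcTopology T := by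
  obtain ⟨R, hR, hsec⟩ := hX
  refine Scheme.fpqcTopology.superset_covering ?_
    (Scheme.fpqcTopology.pullback_stable h (Precoverage.generate_mem_toGrothendieck hR))
  rintro W g ⟨W', a, b, hb, hab⟩
  obtain ⟨s, hs⟩ := hsec b hb
  exact ⟨a ≫ s, by rw [Category.assoc, hs]; exact hab⟩

theorem locSieve_of_point {X : Over S} {T T' : Over S} (q : T' ⟶ T) (p : T' ⟶ X) :
    locSieve X T.hom q.left :=
  ⟨p.left, (Over.w p).trans (Over.w q).symm⟩

theorem exists_point {X : Over S} {T T' : Over S} (q : T' ⟶ T) (hq : locSieve X T.hom q.left) :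
    ∃ _ : T' ⟶ X, True := by
  obtain ⟨s, hs⟩ := hq
  exact ⟨Over.homMk s (hs.trans (Over.w q)), trivial⟩

theorem hom_ext {T Z : Over S} {U : Sieve T.left} (hU : U ∈ Scheme.fpqcTopology T.left)
    {a b : T ⟶ Z} (h : ∀ ⦃T' : Over S⦄ (q : T' ⟶ T), U q.left → q ≫ a = q ≫ b) : a = b := by
  refine Over.OverMorphism.ext ?_
  refine ((GrothendieckTopology.Subcanonical.isSheaf_of_isRepresentable (J := Scheme.fpqcTopology)
    (yoneda.obj Z.left)) U hU).isSeparatedFor.ext fun W g hg => ?_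
  exact congrArg CommaMorphism.left
    (h (Over.homMk g rfl : Over.mk (g ≫ T.hom) ⟶ T) hg)

/-- A relation which is functional on the members of a covering sieve and stable under composition
defines a morphism. -/
theorem exists_glue {T Z : Over S} {U : Sieve T.left} (hU : U ∈ Scheme.fpqcTopology T.left)
    (R : ∀ ⦃T' : Over S⦄, (T' ⟶ T) → (T' ⟶ Z) → Prop)
    (hex : ∀ ⦃T' : Over S⦄ (q : T' ⟶ T), U q.left → ∃ z, R q z)
    (huniq : ∀ ⦃T' : Over S⦄ (q : T' ⟶ T) (z z' : T' ⟶ Z), R q z → R q z' → z = z')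
    (hcomp : ∀ ⦃T' T'' : Over S⦄ (k : T'' ⟶ T') (q : T' ⟶ T) (z : T' ⟶ Z), R q z → R (k ≫ q) (k ≫ z)) :
    ∃ t : T ⟶ Z, ∀ ⦃T' : Over S⦄ (q : T' ⟶ T), U q.left → R q (q ≫ t) := by
  choose x hx using hex
  let y : Presieve.FamilyOfElements (yoneda.obj Z.left) U.arrows := fun W g hg =>
    (x (Over.homMk g rfl : Over.mk (g ≫ T.hom) ⟶ T) hg).left
  have hy : y.Compatible := by
    rw [Presieve.compatible_iff_sieveCompatible]
    intro W W' g k hg
    let k' : Over.mk ((k ≫ g) ≫ T.hom) ⟶ Over.mk (g ≫ T.hom) := Over.homMk k (Category.assoc _ _ _).symm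
    have hk : k' ≫ (Over.homMk g rfl : Over.mk (g ≫ T.hom) ⟶ T) = Over.homMk (k ≫ g) rfl :=
      Over.OverMorphism.ext rfl
    have := huniq _ _ _ (hx _ (U.downward_closed hg k))
      (hk ▸ hcomp k' _ _ (hx _ hg))
    exact congrArg CommaMorphism.left this
  have hsheaf := (GrothendieckTopology.Subcanonical.isSheaf_of_isRepresentable (J := Scheme.fpqcTopology)
    (yoneda.obj Z.left)) U hU
  obtain ⟨t, ht, -⟩ := hsheaf y hy
  have hw : t ≫ Z.hom = T.hom := by
    refine ((GrothendieckTopology.Subcanonical.isSheaf_of_isRepresentable (J := Scheme.fpqcTopology)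
      (yoneda.obj S)) U hU).isSeparatedFor.ext fun W g hg => ?_
    show g ≫ t ≫ Z.hom = g ≫ T.hom
    have h1 : g ≫ t = (x (Over.homMk g rfl : Over.mk (g ≫ T.hom) ⟶ T) hg).left := ht g hg
    rw [reassoc_of% h1]
    exact Over.w (x (Over.homMk g rfl : Over.mk (g ≫ T.hom) ⟶ T) hg)
  refine ⟨Over.homMk t hw, fun T' q hq => ?_⟩
  let q₀ : Over.mk (q.left ≫ T.hom) ⟶ T := Over.homMk q.left rfl
  let e : T' ⟶ Over.mk (q.left ≫ T.hom) := Over.homMk (𝟙 _) ((Category.id_comp _).trans (Over.w q))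
  have he : e ≫ q₀ = q := Over.OverMorphism.ext (Category.id_comp _)
  have h1 : x q₀ hq = q₀ ≫ Over.homMk t hw := Over.OverMorphism.ext (ht q.left hq).symm
  have h2 : R q₀ (q₀ ≫ Over.homMk t hw) := h1 ▸ hx q₀ hq
  have h3 := hcomp e q₀ _ h2
  rwa [← Category.assoc, he] at h3

section Torsor

variable {G X : Over S} [GrpObj G]

open NonAbLib

/-- A morphism out of a torsor which is constant on orbits comes from a section. -/
theorem exists_desc {a : AlgGrp.Action G X} (ha : NonAbH1.IsTorsorFor Scheme.fpqcPrecoverage a)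
    {Z : Over S} (m : X ⟶ Z)
    (hm : ∀ ⦃T : Over S⦄ (g : T ⟶ G) (p : T ⟶ X), actPt a g p ≫ m = p ≫ m) :
    ∃ f : 𝟙_ (Over S) ⟶ Z, toUnit X ≫ f = m := by
  have huniq : ∀ ⦃T : Over S⦄ (p p' : T ⟶ X), p ≫ m = p' ≫ m := fun T p p' => by
    obtain ⟨g, hg, -⟩ := existsUnique_actPt ha.1 p p'
    rw [← hg, hm]
  obtain ⟨f, hf⟩ := exists_glue (locSieve_mem ha.2 (𝟙_ (Over S)).hom)
    (fun T _ z => ∃ p : T ⟶ X, p ≫ m = z)
    (fun T q hq => by
      obtain ⟨p, -⟩ := exists_point q hq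
      exact ⟨_, p, rfl⟩)
    (fun T q z z' => by
      rintro ⟨p, rfl⟩ ⟨p', rfl⟩
      exact huniq p p')
    (fun T T' k q z => by
      rintro ⟨p, rfl⟩
      exact ⟨k ≫ p, Category.assoc _ _ _⟩)
  obtain ⟨p, hp⟩ := hf (toUnit X) (locSieve_of_point (toUnit X) (𝟙 X))
  exact ⟨f, by rw [← hp, huniq p (𝟙 X), Category.id_comp]⟩

end Torsor

section ExactSeq

variable {G G' G'' : Over S} [GrpObj G] [GrpObj G'] [GrpObj G'']
  {K : Precoverage Scheme.{u}} {u : G' ⟶ G} {v : G ⟶ G''}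

omit [GrpObj G'] in
theorem lift_mulRight {T : Over S} (a : T ⟶ G) (g : T ⟶ G') :
    lift a g ≫ ((G ◁ u) ≫ μ[G]) = a * (g ≫ u) := by
  rw [Hom.mul_def, lift_whiskerLeft_assoc]

theorem exists_eq_mul (hex : NonAbH1.IsExactSeq K u v) {T : Over S} (a b : T ⟶ G)
    (h : a ≫ v = b ≫ v) : ∃ g : T ⟶ G', a * (g ≫ u) = b := by
  obtain ⟨-, -, -, hpb, -⟩ := hex
  refine ⟨hpb.lift a b h ≫ snd G G', ?_⟩
  have h1 := hpb.lift_fst a b h
  have h2 := hpb.lift_snd a b h
  have h3 : lift (hpb.lift a b h ≫ fst G G') (hpb.lift a b h ≫ snd G G') = hpb.lift a b h := by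
    rw [← comp_lift, lift_fst_snd, Category.comp_id]
  rw [h1] at h3
  rw [← lift_mulRight, h3]
  exact h2

theorem mono_u (hex : NonAbH1.IsExactSeq K u v) {T : Over S} (g g' : T ⟶ G')
    (h : g ≫ u = g' ≫ u) : g = g' := by
  obtain ⟨-, -, -, hpb, -⟩ := hex
  have : lift (1 : T ⟶ G) g = lift 1 g' := hpb.hom_ext (by simp) (by rw [lift_mulRight, lift_mulRight, h])
  simpa using congrArg (· ≫ snd G G') this

end ExactSeq

end Groth.Agent.TorsSeq
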